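/-
All minimal vectors form one orbit of the reflection group.
-/
import Cfsg.Agent.Lib.J2I.GenData
import Cfsg.Agent.Lib.J2I.Enum
import Cfsg.Agent.Lib.J2I.CentData
import Cfsg.Agent.Lib.J2I.LineData

set_option autoImplicit false
set_option maxRecDepth 100000

namespace Cfsg.Agent.Lib.J2I

open Cfsg.Spor Quaternion I8 Cfsg.Agent.Lib.LeechP Cfsg.Agent.Lib.M24 Cfsg.Agent.Lib.Golay

/-- The coordinates of `h`. -/
def HH : I8 := ⟨1, -2, 1, 0, 1, 0, 1, 0⟩

instance : DecidablePred InI := fun u => by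
  unfold InI
  infer_instance

/-- Division of coordinates by four. -/
def dv4 (P : I8) : I8 := ⟨P.a / 4, P.b / 4, P.c / 4, P.d / 4, P.e / 4, P.f / 4, P.g / 4, P.h / 4⟩

/-- A test for the ideal of `h`. -/
def ilH (X : I8) : Bool := decide (InI (dv4 (pM X (conj HH)))) && decide (pM X (conj HH) = smul 4 (dv4 (pM X (conj HH))))

/-- A test for the ideal of the conjugate of `h`. -/
def ilB (X : I8) : Bool := decide (InI (dv4 (pM X HH))) && decide (pM X HH = smul 4 (dv4 (pM X HH)))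

lemma mul_two_smul (x : ℍ[ℝ]) : x * 2 = (2 : ℝ) • x := by
  rw [mul_two, two_smul]

lemma ilH_spec {X : I8} (h : ilH X = true) : q X ∈ leftIdeal icoH := by
  simp only [ilH, Bool.and_eq_true, decide_eq_true_eq] at h
  obtain ⟨h1, h2⟩ := h
  set A := dv4 (pM X (conj HH))
  refine ⟨q A, mem_of_InI h1, ?_⟩
  have e1 : q X * star icoH = (2 : ℝ) • q A := by
    rw [H_eq, q_conj, q_mul]
    change (1 / 2 : ℝ) • q (pM X (conj HH)) = _
    rw [h2, q_smul, smul_smul]
    norm_num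
  have e2 : q X * (star icoH * icoH) = (2 : ℝ) • (q A * icoH) := by
    rw [← mul_assoc, e1, smul_mul_assoc]
  rw [star_mul_H, mul_two_smul] at e2
  exact smul_right_injective _ (two_ne_zero) e2

lemma ilB_spec {X : I8} (h : ilB X = true) : q X ∈ leftIdeal (star icoH) := by
  simp only [ilB, Bool.and_eq_true, decide_eq_true_eq] at h
  obtain ⟨h1, h2⟩ := h
  set A := dv4 (pM X HH)
  refine ⟨q A, mem_of_InI h1, ?_⟩
  have e1 : q X * icoH = (2 : ℝ) • q A := by
    rw [H_eq, q_mul]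
    change (1 / 2 : ℝ) • q (pM X HH) = _
    rw [h2, q_smul, smul_smul]
    norm_num
  have e2 : q X * (icoH * star icoH) = (2 : ℝ) • (q A * star icoH) := by
    rw [← mul_assoc, e1, smul_mul_assoc]
  rw [H_mul_star, mul_two_smul] at e2
  exact smul_right_injective _ (two_ne_zero) e2

/-- The blocks of a triple. -/
def Rfun (T : I8 × I8 × I8) : ℕ → I8
  | 0 => T.1
  | 1 => T.2.1
  | _ => T.2.2

/-- The vector of a triple. -/
noncomputable def vL (T : I8 × I8 × I8) : V := fun s => q (Rfun T s.1)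

/-- A test for the lattice. -/
def latB (T : I8 × I8 × I8) : Bool :=
  decide (InI T.1) && decide (InI T.2.1) && decide (InI T.2.2) && ilH (sub T.1 T.2.1) && ilH (sub T.2.1 T.2.2) &&
    ilB (add (add T.1 T.2.1) T.2.2)

/-- A test for the norm. -/
def normB (T : I8 × I8 × I8) : Bool :=
  decide (aN T.1 + aN T.2.1 + aN T.2.2 = 16) && decide (bN T.1 + bN T.2.1 + bN T.2.2 = 0)

lemma vL_mem {T : I8 × I8 × I8} (h : latB T = true) : vL T ∈ icoLeech := by
  simp only [latB, Bool.and_eq_true, decide_eq_true_eq] at h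
  obtain ⟨⟨⟨⟨⟨h1, h2⟩, h3⟩, h4⟩, h5⟩, h6⟩ := h
  refine ⟨fun t => ?_, ?_, ?_, ?_⟩
  · fin_cases t
    · exact mem_of_InI h1
    · exact mem_of_InI h2
    · exact mem_of_InI h3
  · have := ilH_spec h4
    rw [← q_sub] at this
    exact this
  · have := ilH_spec h5
    rw [← q_sub] at this
    exact this
  · have := ilB_spec h6
    rw [← q_add, ← q_add] at this
    exact this

lemma vL_norm {T : I8 × I8 × I8} (h : normB T = true) : qip (vL T) (vL T) = 4 := by
  simp only [normB, Bool.and_eq_true, decide_eq_true_eq] at h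
  exact (qip_four_iff (U0 := T.1) (U1 := T.2.1) (U2 := T.2.2) rfl rfl rfl).2 h

/-- The test for a generator. -/
noncomputable def genB (T : List Row × I8 × I8 × I8) : Bool :=
  rowsOK T.1 && chkRows T.1 (Rfun T.2) && latB T.2 && normB T.2

theorem gAll_ok : allL genB gAll = true := by decide +kernel

/-- The first frame vector. -/
def tE1 : I8 × I8 × I8 := (⟨4, 0, 0, 0, 0, 0, 0, 0⟩, ⟨0, 0, 0, 0, 0, 0, 0, 0⟩, ⟨0, 0, 0, 0, 0, 0, 0, 0⟩)
/-- The second frame vector. -/
def tE2 : I8 × I8 × I8 := (⟨0, 0, 0, 0, 0, 0, 0, 0⟩, ⟨4, 0, 0, 0, 0, 0, 0, 0⟩, ⟨0, 0, 0, 0, 0, 0, 0, 0⟩)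
/-- The third frame vector. -/
def tE3 : I8 × I8 × I8 := (⟨0, 0, 0, 0, 0, 0, 0, 0⟩, ⟨0, 0, 0, 0, 0, 0, 0, 0⟩, ⟨4, 0, 0, 0, 0, 0, 0, 0⟩)

lemma tE1_ok : latB tE1 = true ∧ normB tE1 = true := by decide +kernel
lemma tE2_ok : latB tE2 = true ∧ normB tE2 = true := by decide +kernel
lemma tE3_ok : latB tE3 = true ∧ normB tE3 = true := by decide +kernel

/-- The frame vector in the lattice. -/
noncomputable def eL1 : icoLeech := ⟨vL tE1, vL_mem tE1_ok.1⟩
/-- The frame vector in the lattice. -/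
noncomputable def eL2 : icoLeech := ⟨vL tE2, vL_mem tE2_ok.1⟩
/-- The frame vector in the lattice. -/
noncomputable def eL3 : icoLeech := ⟨vL tE3, vL_mem tE3_ok.1⟩

lemma coord_bound {u : I8} (h : aN u ≤ 16) (k : ℕ) : |coordI u k| ≤ 16 := by
  have key : ∀ c : ℤ, c * c ≤ 16 → |c| ≤ 16 := by
    intro c hc
    rw [abs_le]
    constructor <;> nlinarith
  unfold aN at h
  have h1 := mul_self_nonneg u.a
  have h2 := mul_self_nonneg u.b
  have h3 := mul_self_nonneg u.c
  have h4 := mul_self_nonneg u.d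
  have h5 := mul_self_nonneg u.e
  have h6 := mul_self_nonneg u.f
  have h7 := mul_self_nonneg u.g
  have h8 := mul_self_nonneg u.h
  rcases k with _ | _ | _ | _ | _ | _ | _ | k <;> apply key <;> simp only [coordI] <;> omega

lemma fromI_bound {U0 U1 U2 : I8} (h : aN U0 + aN U1 + aN U2 = 16) {i : ℕ} : |fromI U0 U1 U2 i| ≤ 16 := by
  have a0 := aN_nonneg U0
  have a1 := aN_nonneg U1
  have a2 := aN_nonneg U2
  unfold fromI
  split_ifs
  · exact coord_bound (by omega) _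
  · exact coord_bound (by omega) _
  · exact coord_bound (by omega) _
  · simp

lemma cI_congr {X Y : ℕ → ℤ} (h : ∀ j < 24, X j = Y j) {t : ℕ} (ht : t < 3) : cI X t = cI Y t := by
  simp only [cI]
  congr 1 <;> apply h <;> omega

/-- One step of the search. -/
theorem step_eval {T : List Row × I8 × I8 × I8} (hT : genB T = true) {n : ℕ} (hn : Val n) (hL : qrefl (vL T.2) (vec n) ∈ icoLeech)
    (h4 : qip (qrefl (vL T.2) (vec n)) (qrefl (vL T.2) (vec n)) = 4) :
    Val (evalM T.1 n) ∧ vec (evalM T.1 n) = qrefl (vL T.2) (vec n) := by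
  simp only [genB, Bool.and_eq_true] at hT
  obtain ⟨⟨⟨h1, h2⟩, h3⟩, h5⟩ := hT
  obtain ⟨U0, U1, U2, _, _, _, e0, e1, e2, _, _, _⟩ := lat_coords hL
  obtain ⟨s1, _⟩ := (qip_four_iff e0 e1 e2).1 h4
  refine refl_eval (R := Rfun T.2) (Y := fromI U0 U1 U2) h1 h2 hn (fun t => ?_) (fun i _ => fromI_bound s1)
  fin_cases t
  · exact e0
  · exact e1
  · exact e2

/-- Reachable numbers. -/
def PO (n : ℕ) : Prop := Val n ∧ ∃ h : vec n ∈ icoLeech, ∃ g ∈ twoJ2, g eL1 = ⟨vec n, h⟩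

lemma PO_step {T : List Row × I8 × I8 × I8} (hT : genB T = true) {n : ℕ} (hn : PO n) : PO (evalM T.1 n) := by
  obtain ⟨hv, h, g, hg, e⟩ := hn
  have hT' := hT
  simp only [genB, Bool.and_eq_true] at hT'
  obtain ⟨⟨⟨h1, h2⟩, h3⟩, h5⟩ := hT'
  have hr := vL_mem h3
  have hrn := vL_norm h5
  have hG := good_of_mem hg
  have hL := qrefl_mem h hr
  have hnorm : qip (vec n) (vec n) = 4 := by
    have e1 : (g eL1).1 = vec n := by rw [e]
    rw [← e1, hG.giso]
    exact vL_norm tE1_ok.2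
  have h4 : qip (qrefl (vL T.2) (vec n)) (qrefl (vL T.2) (vec n)) = 4 := by
    rw [qrefl_isometry hrn, hnorm]
  obtain ⟨a1, a2⟩ := step_eval hT hv hL h4
  refine ⟨a1, a2 ▸ hL, reflPerm (vL T.2) hr hrn * g, Subgroup.mul_mem _ (reflPerm_mem _ _ _) hg, ?_⟩
  apply Subtype.ext
  rw [Equiv.Perm.mul_apply, e, reflPerm_apply]
  exact a2.symm

lemma PO_start : PO nE1 := by
  have hv : Val nE1 := by
    apply val_of_valB
    decide +kernel
  have e : vec nE1 = vL tE1 := by
    funext t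
    fin_cases t
    · show q (cI (XN nE1) 0) = q _
      congr 1
    · show q (cI (XN nE1) 1) = q _
      congr 1
    · show q (cI (XN nE1) 2) = q _
      congr 1
  refine ⟨hv, e ▸ eL1.2, 1, Subgroup.one_mem _, ?_⟩
  apply Subtype.ext
  exact e.symm

lemma pk24 (f : ℕ → ℕ) : pk f 24 =
    Nat.add (Nat.add (f 0 + W * (f 1 + W * (f 2 + W * (f 3 + W * (f 4 + W * (f 5 + W * (f 6 + W * f 7)))))))
      (Nat.mul W8 (f 8 + W * (f 9 + W * (f 10 + W * (f 11 + W * (f 12 + W * (f 13 + W * (f 14 + W * f 15))))))))) 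
      (Nat.mul W16 (f 16 + W * (f 17 + W * (f 18 + W * (f 19 + W * (f 20 + W * (f 21 + W * (f 22 + W * f 23)))))))) := by
  show _ = (_ + W8 * _) + W16 * _
  rw [W8_eq, W16_eq]
  simp only [pk]
  ring

lemma enc3_eq (U0 U1 U2 : I8) : enc3 U0 U1 U2 = pk (fun i => (fromI U0 U1 U2 i + 16).toNat) 24 := by
  rw [pk24]
  rfl

lemma enc3_val {U0 U1 U2 : I8} (h : aN U0 + aN U1 + aN U2 = 16) :
    Val (enc3 U0 U1 U2) ∧ ∀ j < 24, XN (enc3 U0 U1 U2) j = fromI U0 U1 U2 j := by
  set F : ℕ → ℕ := fun i => (fromI U0 U1 U2 i + 16).toNat with hF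
  have hF1 : ∀ i, (F i : ℤ) = fromI U0 U1 U2 i + 16 := by
    intro i
    have := abs_le.1 (fromI_bound (i := i) h)
    simp only [hF]
    omega
  have hF2 : ∀ i, F i ≤ 32 := by
    intro i
    have := abs_le.1 (fromI_bound (i := i) h)
    have h2 := hF1 i
    omega
  have hW : ∀ i < 24, F i < W := fun i _ => lt_of_le_of_lt (hF2 i) (by norm_num [W])
  rw [enc3_eq]
  have hfld : ∀ i < 24, fld (pk F 24) i = F i := fun i hi => fld_pk hW hi
  refine ⟨⟨pk_lt hW, fun i hi => ?_⟩, fun j hj => ?_⟩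
  · rw [hfld i hi]
    exact hF2 i
  · unfold XN
    rw [hfld j hj, hF1]
    ring

lemma vec_enc3 {v : V} {U0 U1 U2 : I8} (e0 : v 0 = q U0) (e1 : v 1 = q U1) (e2 : v 2 = q U2) (h : aN U0 + aN U1 + aN U2 = 16) :
    vec (enc3 U0 U1 U2) = v := by
  obtain ⟨_, h2⟩ := enc3_val h
  funext t
  fin_cases t
  · show q (cI (XN (enc3 U0 U1 U2)) 0) = v 0
    rw [cI_congr h2 (by norm_num), cI_fromI_0, e0]
  · show q (cI (XN (enc3 U0 U1 U2)) 1) = v 1
    rw [cI_congr h2 (by norm_num), cI_fromI_1, e1]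
  · show q (cI (XN (enc3 U0 U1 U2)) 2) = v 2
    rw [cI_congr h2 (by norm_num), cI_fromI_2, e2]

/-- The vectors of minimal norm. -/
def Zs : Set V := {r | r ∈ icoLeech ∧ qip r r = 4}

lemma PO_norm {n : ℕ} (hn : PO n) : qip (vec n) (vec n) = 4 := by
  obtain ⟨_, h, g, hg, e⟩ := hn
  have e1 : (g eL1).1 = vec n := by rw [e]
  rw [← e1, (good_of_mem hg).giso]
  exact vL_norm tE1_ok.2

/-- Every minimal vector is packed in the list of candidates. -/
lemma cand_cover {r : V} (h : r ∈ Zs) : ∃ n ∈ cand, vec n = r := by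
  obtain ⟨U0, U1, U2, e0, e1, e2, s, hm⟩ := mem_cand h.1 h.2
  exact ⟨_, hm, vec_enc3 e0 e1 e2 s⟩

/-! ### Words -/

/-- The generator with a given index. -/
def gk (k : ℕ) : List Row × I8 × I8 × I8 := gAll.getD k ([], tE1)

/-- The action of a word. -/
noncomputable def wordA : List ℕ → ℕ → ℕ
  | [], n => n
  | k :: w, n => evalM (gk k).1 (wordA w n)

lemma gk_ok {k : ℕ} (hk : k < 4) : genB (gk k) = true := by
  apply allL_spec gAll_ok
  have hl : k < gAll.length := hk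
  unfold gk
  rw [List.getD_eq_getElem _ _ hl]
  exact List.getElem_mem hl

lemma PO_word {w : List ℕ} (hw : ∀ k ∈ w, k < 4) : PO (wordA w nE1) := by
  induction w with
  | nil => exact PO_start
  | cons k w ih =>
    exact PO_step (gk_ok (hw k (List.mem_cons_self ..))) (ih (fun j hj => hw j (List.mem_cons_of_mem _ hj)))

/-! ### The lines -/

/-- The test for a word of a vector on a line. -/
noncomputable def rwB (e : List ℕ × ℕ) : Bool := allL (fun k => Nat.blt k 4) e.1 && Nat.beq (wordA e.1 nE1) e.2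

theorem chkRW : allL rwB RW = true := by decide +kernel

/-- The packed vectors on the lines. -/
def RN : List ℕ := RW.map Prod.snd

lemma RN_PO {n : ℕ} (hn : n ∈ RN) : PO n := by
  obtain ⟨e, he, rfl⟩ := List.mem_map.1 hn
  have h := allL_spec chkRW e he
  simp only [rwB, Bool.and_eq_true] at h
  rw [← Nat.eq_of_beq_eq_true h.2]
  exact PO_word (fun k hk => blt_sound (allL_spec h.1 k hk))

/-- The test for a word of a multiple of the first frame vector. -/
noncomputable def uwB (p : I8 × List ℕ) : Bool :=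
  allL (fun k => Nat.blt k 4) p.2 && decide (cI (XN (wordA p.2 nE1)) 0 = smul 2 p.1) &&
    decide (cI (XN (wordA p.2 nE1)) 1 = zero) && decide (cI (XN (wordA p.2 nE1)) 2 = zero)

theorem chkUW : allL uwB UW = true := by decide +kernel

theorem UL_UW : UL = UW.map Prod.fst := by decide +kernel

theorem UL_InI : ∀ U ∈ UL, InI U := by
  unfold InI
  decide +kernel

theorem UL_norm : ∀ U ∈ UL, aN U = 4 ∧ bN U = 0 ∧ aN (smul 2 U) + aN zero + aN zero = 16 ∧ bN (smul 2 U) + bN zero + bN zero = 0 := by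
  decide +kernel

theorem UL_nd : UL.Nodup ∧ UL.length = 120 := by decide +kernel

lemma q_smul2 (U : I8) : q (smul 2 U) = q U * 2 := by
  rw [q_smul, mul_two_smul]
  norm_cast

lemma two_ne : (2 : ℍ[ℝ]) ≠ 0 := by
  intro h
  rw [two_eq, ← q_zero] at h
  have := congrArg I8.a (q_inj h)
  simp [zero] at this

lemma vE1_0 : vL tE1 0 = 2 := two_eq.symm
lemma vE1_1 : vL tE1 1 = 0 := q_zero
lemma vE1_2 : vL tE1 2 = 0 := q_zero

lemma UL_star {U : I8} (hU : U ∈ UL) : star (q U) * q U = 1 := by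
  obtain ⟨h1, h2, _⟩ := UL_norm U hU
  have e := norm_eq U
  rw [h1, h2, show (⟨4, 0, 0, 0, 0, 0, 0, 0⟩ : I8) = smul 2 ⟨2, 0, 0, 0, 0, 0, 0, 0⟩ from by decide, half_smul, ← one_eq] at e
  rw [Quaternion.star_mul_self, ← Quaternion.self_mul_star, e]

lemma UW_spec {U : I8} (hU : U ∈ UL) : ∃ m, PO m ∧ vec m = smulV (q U) (vL tE1) := by
  rw [UL_UW] at hU
  obtain ⟨p, hp, rfl⟩ := List.mem_map.1 hU
  have h := allL_spec chkUW p hp
  simp only [uwB, Bool.and_eq_true, decide_eq_true_eq] at h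
  obtain ⟨⟨⟨h1, h2⟩, h3⟩, h4⟩ := h
  refine ⟨wordA p.2 nE1, PO_word (fun k hk => blt_sound (allL_spec h1 k hk)), ?_⟩
  funext t
  fin_cases t
  · show q (cI (XN (wordA p.2 nE1)) 0) = q p.1 * vL tE1 0
    rw [h2, q_smul2, vE1_0]
  · show q (cI (XN (wordA p.2 nE1)) 1) = q p.1 * vL tE1 1
    rw [h3, q_zero, vE1_1, mul_zero]
  · show q (cI (XN (wordA p.2 nE1)) 2) = q p.1 * vL tE1 2
    rw [h4, q_zero, vE1_2, mul_zero]

lemma PO_line {U : I8} (hU : U ∈ UL) {n : ℕ} (hn : PO n) :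
    ∃ h : smulV (q U) (vec n) ∈ icoLeech, ∃ g ∈ twoJ2, g eL1 = ⟨smulV (q U) (vec n), h⟩ := by
  obtain ⟨_, hL, g, hg, e⟩ := hn
  obtain ⟨m, ⟨_, hL', g', hg', e'⟩, em⟩ := UW_spec hU
  have hm : q U ∈ icosians := mem_of_InI (UL_InI U hU)
  refine ⟨L_smul hm hL, g * g', Subgroup.mul_mem _ hg hg', ?_⟩
  apply Subtype.ext
  have h1 : g' eL1 = Lsm ⟨q U, hm⟩ eL1 := Subtype.ext (by rw [e']; exact em)
  rw [Equiv.Perm.mul_apply, h1, (good_of_mem hg).gsm, e]

/-- A hash of coordinates. -/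
def hs8 (X : I8) : ℤ :=
  X.a + 1009 * (X.b + 1009 * (X.c + 1009 * (X.d + 1009 * (X.e + 1009 * (X.f + 1009 * (X.g + 1009 * X.h))))))

/-- An invariant of a line. -/
def ikP (n i j : ℕ) : I8 := pM (conj (cI (XN n) i)) (cI (XN n) j)

/-- A hash of the invariants of a line. -/
def ikN (n : ℕ) : ℤ :=
  hs8 (ikP n 0 0) + 10000019 * (hs8 (ikP n 0 1) + 10000019 * (hs8 (ikP n 0 2) + 10000019 * (hs8 (ikP n 1 1) +
    10000019 * (hs8 (ikP n 1 2) + 10000019 * hs8 (ikP n 2 2)))))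

theorem RN_ik : (RN.map ikN).Nodup := by decide +kernel

theorem RN_nd : RN.Nodup ∧ RN.length = 315 := by decide +kernel

/-- The vectors on the lines. -/
noncomputable def FL (p : I8 × ℕ) : V := smulV (q p.1) (vec p.2)

lemma star_line {a x y : ℍ[ℝ]} (ha : star a * a = 1) : star (a * x) * (a * y) = star x * y := by
  rw [star_mul, mul_assoc, ← mul_assoc (star a), ha, one_mul]

lemma star_ikP (k : ℕ) (t s : Fin 3) : star (vec k t) * vec k s = (1 / 2 : ℝ) • q (ikP k t.1 s.1) := by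
  show star (q _) * q _ = _
  rw [q_conj, q_mul]
  rfl

lemma line_ik {U U' : I8} (hU : U ∈ UL) (hU' : U' ∈ UL) {n m : ℕ} (h : FL (U, n) = FL (U', m)) : ikN n = ikN m := by
  have ha := UL_star hU
  have ha' := UL_star hU'
  have key : ∀ i j : Fin 3, ikP n i.1 j.1 = ikP m i.1 j.1 := by
    intro i j
    have h1 : star (vec n i) * vec n j = star (vec m i) * vec m j := by
      rw [← star_line (x := vec n i) (y := vec n j) ha, ← star_line (x := vec m i) (y := vec m j) ha']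
      have hi : q U * vec n i = q U' * vec m i := congrFun h i
      have hj : q U * vec n j = q U' * vec m j := congrFun h j
      rw [hi, hj]
    rw [star_ikP, star_ikP] at h1
    exact q_inj (smul_right_injective _ (by norm_num) h1)
  have k00 : ikP n 0 0 = ikP m 0 0 := key 0 0
  have k01 : ikP n 0 1 = ikP m 0 1 := key 0 1
  have k02 : ikP n 0 2 = ikP m 0 2 := key 0 2
  have k11 : ikP n 1 1 = ikP m 1 1 := key 1 1
  have k12 : ikP n 1 2 = ikP m 1 2 := key 1 2
  have k22 : ikP n 2 2 = ikP m 2 2 := key 2 2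
  unfold ikN
  rw [k00, k01, k02, k11, k12, k22]

lemma FL_inj : Set.InjOn FL ({U | U ∈ UL} ×ˢ {n | n ∈ RN}) := by
  rintro ⟨U, n⟩ ⟨hU, hn⟩ ⟨U', m⟩ ⟨hU', hm⟩ h
  have e1 : n = m := List.inj_on_of_nodup_map RN_ik hn hm (line_ik hU hU' h)
  subst e1
  have hz : ∃ t, vec n t ≠ 0 := by
    by_contra hcon
    push Not at hcon
    have h4 := PO_norm (RN_PO hn)
    rw [qip_eq, hcon, hcon, hcon] at h4
    have h2 := two_ne
    have h5 : (4 : ℍ[ℝ]) = 2 * 2 := by norm_num
    rw [h5] at h4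
    simp at h4
    exact two_ne h4
  obtain ⟨t, ht⟩ := hz
  have h6 : q U * vec n t = q U' * vec n t := congrFun h t
  have e2 : q U = q U' := mul_right_cancel₀ ht h6
  rw [q_inj e2]

lemma FL_sub : FL '' ({U | U ∈ UL} ×ˢ {n | n ∈ RN}) ⊆ Zs := by
  rintro _ ⟨⟨U, n⟩, ⟨hU, hn⟩, rfl⟩
  obtain ⟨h, g, hg, e⟩ := PO_line hU (RN_PO hn)
  refine ⟨h, ?_⟩
  have e1 : (g eL1).1 = FL (U, n) := by
    rw [e]
    rfl
  show qip (FL (U, n)) (FL (U, n)) = 4
  rw [← e1, (good_of_mem hg).giso]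
  exact vL_norm tE1_ok.2

lemma ncard_listG {α : Type*} [DecidableEq α] (l : List α) (h : l.Nodup) : ({x | x ∈ l} : Set α).ncard = l.length := by
  have e : ({x | x ∈ l} : Set α) = ↑l.toFinset := by
    ext x
    simp
  rw [e, Set.ncard_coe_finset, List.toFinset_card_of_nodup h]

lemma FL_card : (FL '' ({U | U ∈ UL} ×ˢ {n | n ∈ RN})).ncard = 37800 := by
  rw [Set.InjOn.ncard_image FL_inj, Set.ncard_prod, ncard_listG _ UL_nd.1, ncard_listG _ RN_nd.1, UL_nd.2, RN_nd.2]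

theorem FL_image : FL '' ({U | U ∈ UL} ×ˢ {n | n ∈ RN}) = Zs := by
  classical
  have hfin0 : ({n | n ∈ cand} : Set ℕ).Finite := List.finite_toSet cand
  have hfin : (vec '' {n | n ∈ cand}).Finite := hfin0.image vec
  have hsub : Zs ⊆ vec '' {n | n ∈ cand} := fun r hr => by
    obtain ⟨n, hn, e⟩ := cand_cover hr
    exact ⟨n, hn, e⟩
  apply Set.eq_of_subset_of_ncard_le FL_sub _ (hfin.subset hsub)
  rw [FL_card]
  calc Zs.ncard ≤ (vec '' {n | n ∈ cand}).ncard := Set.ncard_le_ncard hsub hfin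
    _ ≤ ({n | n ∈ cand} : Set ℕ).ncard := Set.ncard_image_le hfin0
    _ ≤ cand.length := by
      have e : ({n | n ∈ cand} : Set ℕ) = ↑cand.toFinset := by
        ext x
        simp
      rw [e, Set.ncard_coe_finset]
      exact List.toFinset_card_le _
    _ = 37800 := cand_length

/-- The count of the minimal vectors. -/
theorem Zs_ncard : Zs.ncard = 37800 := by
  rw [← FL_image, FL_card]

/-- Any two minimal vectors are conjugate. -/
theorem Zs_trans {r : icoLeech} (h4 : qip r.1 r.1 = 4) : ∃ g ∈ twoJ2, g eL1 = r := by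
  have hr : r.1 ∈ Zs := ⟨r.2, h4⟩
  rw [← FL_image] at hr
  obtain ⟨⟨U, n⟩, ⟨hU, hn⟩, e⟩ := hr
  obtain ⟨h, g, hg, e1⟩ := PO_line hU (RN_PO hn)
  refine ⟨g, hg, ?_⟩
  rw [e1]
  exact Subtype.ext e

theorem chkLast : allL (fun n => !(decide (cI (XN n) 1 = zero) && decide (cI (XN n) 2 = zero)) || Nat.beq n nE1) RN = true := by
  decide +kernel

theorem nE1_mem : nE1 ∈ RN := by decide +kernel

lemma vec_nE1' : vec nE1 = vL tE1 := by
  funext t
  fin_cases t
  · show q (cI (XN nE1) 0) = q _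
    congr 1
  · show q (cI (XN nE1) 1) = q _
    congr 1
  · show q (cI (XN nE1) 2) = q _
    congr 1

/-- The minimal vectors on the first coordinate line. -/
theorem line_image : {r : V | r ∈ Zs ∧ r 1 = 0 ∧ r 2 = 0} = (fun U : I8 => smulV (q U) (vL tE1)) '' {U | U ∈ UL} := by
  ext r
  constructor
  · rintro ⟨h0, h1, h2⟩
    rw [← FL_image] at h0
    obtain ⟨⟨U, n⟩, ⟨hU, hn⟩, rfl⟩ := h0
    have hne : q U ≠ 0 := by
      intro h
      have := UL_star hU
      rw [h, mul_zero] at this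
      exact zero_ne_one this
    have a1 : vec n 1 = 0 := (mul_eq_zero.1 (show q U * vec n 1 = 0 from h1)).resolve_left hne
    have a2 : vec n 2 = 0 := (mul_eq_zero.1 (show q U * vec n 2 = 0 from h2)).resolve_left hne
    have b1 : cI (XN n) 1 = zero := q_inj (a1.trans q_zero.symm)
    have b2 : cI (XN n) 2 = zero := q_inj (a2.trans q_zero.symm)
    have c := allL_spec chkLast n hn
    simp only [b1, b2, decide_true, Bool.and_true, Bool.not_true, Bool.false_or] at c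
    rw [Nat.eq_of_beq_eq_true c]
    refine ⟨U, hU, ?_⟩
    show smulV (q U) (vL tE1) = smulV (q U) (vec nE1)
    rw [vec_nE1']
  · rintro ⟨U, hU, rfl⟩
    refine ⟨?_, ?_, ?_⟩
    · apply FL_sub
      refine ⟨(U, nE1), ⟨hU, nE1_mem⟩, ?_⟩
      show smulV (q U) (vec nE1) = _
      rw [vec_nE1']
    · show q U * vL tE1 1 = 0
      rw [vE1_1, mul_zero]
    · show q U * vL tE1 2 = 0
      rw [vE1_2, mul_zero]

lemma vec_inj {n m : ℕ} (hn : Val n) (hm : Val m) (h : vec n = vec m) : n = m := by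
  have h3 : ∀ t : Fin 3, cI (XN n) t.1 = cI (XN m) t.1 := fun t => q_inj (congrFun h t)
  have h4 : ∀ i < 24, XN n i = XN m i := by
    intro i hi
    rw [← coordI_cI (XN n) hi, ← coordI_cI (XN m) hi]
    have ht : i / 8 < 3 := by omega
    rw [h3 ⟨i / 8, ht⟩]
  apply eq_of_fld_eq hn.lt hm.lt
  intro i hi
  have := h4 i hi
  unfold XN at this
  omega

end Cfsg.Agent.Lib.J2I
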